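import Groth.Agent.Lib.AutCard17.Basic
import Mathlib.Algebra.Homology.ShortComplex.ShortExact

/-!
# Automorphisms of a non-split self-extension
-/

set_option autoImplicit false

universe v u

open CategoryTheory CategoryTheory.Limits

namespace Groth.Agent.SelfExt17

variable {C : Type u} [Category.{v} C] [Preadditive C]

/-- A non-split extension of `O` by `O`, where `End O` is a field acting on `F`. -/
structure Data (O F : C) where
  i : O ⟶ F
  g : F ⟶ O
  mono : Mono i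
  epi : Epi g
  comp : i ≫ g = 0
  kerFac : ∀ {Z : C} (v : Z ⟶ F), v ≫ g = 0 → ∃ w, w ≫ i = v
  cokFac : ∀ {Z : C} (v : F ⟶ Z), i ≫ v = 0 → ∃ w, g ≫ w = v
  nonsplit : ∀ s : O ⟶ F, s ≫ g ≠ 𝟙 O
  field : ∀ a : O ⟶ O, a = 0 ∨ IsIso a
  lift : (O ⟶ O) → (F ⟶ F)
  lift_i : ∀ a, i ≫ lift a = a ≫ i
  lift_g : ∀ a, lift a ≫ g = g ≫ a

namespace Data

variable {O F : C} (D : Data O F)
include D

theorem exists_of_to (v : O ⟶ F) : ∃ w, w ≫ D.i = v := by
  refine D.kerFac v ((D.field (v ≫ D.g)).resolve_right fun h => ?_)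
  exact D.nonsplit (inv (v ≫ D.g) ≫ v) (by rw [Category.assoc, IsIso.inv_hom_id])

theorem exists_of_from (v : F ⟶ O) : ∃ w, D.g ≫ w = v := by
  haveI := D.epi
  refine D.cokFac v ((D.field (D.i ≫ v)).resolve_right fun h => ?_)
  obtain ⟨s, hs⟩ := D.cokFac (𝟙 F - (v ≫ inv (D.i ≫ v)) ≫ D.i) (by
    rw [Preadditive.comp_sub, Category.comp_id, ← Category.assoc, ← Category.assoc, IsIso.hom_inv_id,
      Category.id_comp, sub_self])
  refine D.nonsplit s ((cancel_epi D.g).1 ?_)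
  rw [reassoc_of% hs, Category.comp_id, Preadditive.sub_comp, Category.id_comp]
  simp [D.comp]

theorem exists_end (φ : F ⟶ F) : ∃ a d, φ = D.lift a + D.g ≫ d ≫ D.i := by
  obtain ⟨a, ha⟩ := D.exists_of_to (D.i ≫ φ)
  obtain ⟨w, hw⟩ := D.cokFac (φ - D.lift a) (by rw [Preadditive.comp_sub, D.lift_i, ha, sub_self])
  obtain ⟨d, hd⟩ := D.exists_of_to w
  exact ⟨a, d, by rw [hd, hw]; abel⟩

theorem end_g (φ : F ⟶ F) (a : O ⟶ O) (h : D.i ≫ φ = a ≫ D.i) : φ ≫ D.g = D.g ≫ a := by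
  obtain ⟨a', d, rfl⟩ := D.exists_end φ
  haveI := D.mono
  have : a' = a := (cancel_mono D.i).1 (by simpa [D.lift_i, reassoc_of% D.comp] using h)
  subst this
  simp [D.lift_g, D.comp]

/-- Endomorphisms of `F`. -/
noncomputable def endEquiv : (O ⟶ O) × (O ⟶ O) ≃ (F ⟶ F) :=
  Equiv.ofBijective (fun p => D.lift p.1 + D.g ≫ p.2 ≫ D.i) ⟨fun p q h => by
    haveI := D.mono
    haveI := D.epi
    have h1 : p.1 = q.1 := (cancel_mono D.i).1 (by
      simpa [D.lift_i, reassoc_of% D.comp] using congrArg (fun φ => D.i ≫ φ) h)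
    refine Prod.ext h1 ((cancel_mono D.i).1 ((cancel_epi D.g).1 ?_))
    simpa [h1] using h, fun φ => by
    obtain ⟨a, d, rfl⟩ := D.exists_end φ
    exact ⟨(a, d), rfl⟩⟩

theorem i_endEquiv (p : (O ⟶ O) × (O ⟶ O)) : D.i ≫ D.endEquiv p = p.1 ≫ D.i := by
  show D.i ≫ (D.lift p.1 + D.g ≫ p.2 ≫ D.i) = _
  simp [D.lift_i, reassoc_of% D.comp]

theorem isUnit_of_mono [Finite (O ⟶ O)] {A : C} [Finite (A ⟶ A)] (x : A ⟶ A) [Mono x] : IsIso x := by
  obtain ⟨y, hy⟩ := (Finite.injective_iff_surjective.1 fun (a b : A ⟶ A) h => (cancel_mono x).1 h :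
    Function.Surjective fun y : A ⟶ A => y ≫ x) (𝟙 A)
  have hy : y ≫ x = 𝟙 A := hy
  exact ⟨y, (cancel_mono x).1 (by rw [Category.assoc, hy, Category.comp_id, Category.id_comp]), hy⟩

theorem isIso_end_iff [Finite (O ⟶ O)] (p : (O ⟶ O) × (O ⟶ O)) : IsIso (D.endEquiv p) ↔ p.1 ≠ 0 := by
  haveI := D.mono
  haveI : Finite (F ⟶ F) := Finite.of_equiv _ D.endEquiv
  refine ⟨fun h h0 => ?_, fun h => ?_⟩
  · have := D.i_endEquiv p
    rw [h0, zero_comp] at this
    have hi : D.i = 0 := (cancel_mono (D.endEquiv p)).1 (this.trans zero_comp.symm)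
    obtain ⟨w, hw⟩ := D.cokFac (𝟙 F) (by rw [hi, zero_comp])
    haveI := D.epi
    refine D.nonsplit w ((cancel_epi D.g).1 ?_)
    rw [reassoc_of% hw, Category.comp_id]
  · haveI := (D.field p.1).resolve_left h
    haveI : Mono (D.endEquiv p) := Preadditive.mono_of_cancel_zero _ fun v hv => by
      have h1 : v ≫ D.g = 0 := (cancel_mono p.1).1 (by
        rw [Category.assoc, ← D.end_g _ _ (D.i_endEquiv p), reassoc_of% hv, zero_comp, zero_comp])
      obtain ⟨w, rfl⟩ := D.kerFac v h1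
      rw [Category.assoc, D.i_endEquiv, ← Category.assoc] at hv
      have : w ≫ p.1 = 0 := (cancel_mono D.i).1 (hv.trans zero_comp.symm)
      rw [(cancel_mono p.1).1 (this.trans zero_comp.symm), zero_comp]
    exact isUnit_of_mono D _

theorem card_nonzero [Finite (O ⟶ O)] : Nat.card {a : O ⟶ O // a ≠ 0} = Nat.card (O ⟶ O) - 1 := by
  classical
  letI := Fintype.ofFinite (O ⟶ O)
  simp [Nat.card_eq_fintype_card, Fintype.card_subtype_compl]

theorem card_aut [Finite (O ⟶ O)] : Nat.card (Aut F) = (Nat.card (O ⟶ O) - 1) * Nat.card (O ⟶ O) := by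
  rw [← D.card_nonzero, ← Nat.card_prod]
  refine Nat.card_congr ?_
  exact
    { toFun := fun (f : F ≅ F) => (⟨(D.endEquiv.symm f.hom).1, (D.isIso_end_iff _).1 (by
        rw [Equiv.apply_symm_apply]; infer_instance)⟩, (D.endEquiv.symm f.hom).2)
      invFun := fun q => @asIso _ _ _ _ (D.endEquiv (q.1.1, q.2)) ((D.isIso_end_iff _).2 q.1.2)
      left_inv := fun (f : F ≅ F) => Iso.ext (by simp)
      right_inv := fun q => by simp }

section

variable [HasBinaryBiproduct O F]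

/-- Endomorphisms of `O ⊞ F`. -/
noncomputable def endSumEquiv :
    ((O ⟶ O) × (O ⟶ O)) × (O ⟶ O) × (O ⟶ O) × (O ⟶ O) ≃ (O ⊞ F ⟶ O ⊞ F) :=
  Equiv.ofBijective (fun p => biprod.desc (biprod.lift p.2.1 (p.2.2.1 ≫ D.i))
      (biprod.lift (D.g ≫ p.2.2.2) (D.endEquiv p.1))) ⟨fun p q h => by
    haveI := D.mono
    haveI := D.epi
    have h1 := congrArg (fun x => biprod.inl ≫ x ≫ biprod.fst) h
    have h2 := congrArg (fun x => biprod.inl ≫ x ≫ biprod.snd) h
    have h3 := congrArg (fun x => biprod.inr ≫ x ≫ biprod.fst) h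
    have h4 := congrArg (fun x => biprod.inr ≫ x ≫ biprod.snd) h
    simp only [biprod.inl_desc_assoc, biprod.inr_desc_assoc, biprod.lift_fst, biprod.lift_snd] at h1 h2 h3 h4
    exact Prod.ext (D.endEquiv.injective h4) (Prod.ext h1 (Prod.ext ((cancel_mono D.i).1 h2)
      ((cancel_epi D.g).1 h3))), fun x => by
    obtain ⟨b, hb⟩ := D.exists_of_to (biprod.inl ≫ x ≫ biprod.snd)
    obtain ⟨c, hc⟩ := D.exists_of_from (biprod.inr ≫ x ≫ biprod.fst)
    refine ⟨(D.endEquiv.symm (biprod.inr ≫ x ≫ biprod.snd), biprod.inl ≫ x ≫ biprod.fst, b, c), ?_⟩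
    apply biprod.hom_ext' <;> apply biprod.hom_ext <;> simp [hb, hc]⟩

theorem isIso_sum_iff [Finite (O ⟶ O)] (p : ((O ⟶ O) × (O ⟶ O)) × (O ⟶ O) × (O ⟶ O) × (O ⟶ O)) :
    IsIso (D.endSumEquiv p) ↔ p.1.1 ≠ 0 ∧ p.2.1 ≠ 0 := by
  haveI := D.mono
  haveI := D.epi
  haveI : Finite (O ⊞ F ⟶ O ⊞ F) := Finite.of_equiv _ D.endSumEquiv
  obtain ⟨⟨α, d⟩, a, b, c⟩ := p
  have hx1 : biprod.inl ≫ D.endSumEquiv ((α, d), a, b, c) ≫ biprod.fst = a := by
    show _ ≫ (biprod.desc _ _) ≫ _ = _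
    simp
  have hx2 : biprod.inl ≫ D.endSumEquiv ((α, d), a, b, c) ≫ biprod.snd = b ≫ D.i := by
    show _ ≫ (biprod.desc _ _) ≫ _ = _
    simp
  have hx3 : biprod.inr ≫ D.endSumEquiv ((α, d), a, b, c) ≫ biprod.fst = D.g ≫ c := by
    show _ ≫ (biprod.desc _ _) ≫ _ = _
    simp
  have hx4 : biprod.inr ≫ D.endSumEquiv ((α, d), a, b, c) ≫ biprod.snd = D.endEquiv (α, d) := by
    show _ ≫ (biprod.desc _ _) ≫ _ = _
    simp
  generalize D.endSumEquiv ((α, d), a, b, c) = x at *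
  have hi : D.i ≫ D.endEquiv (α, d) = α ≫ D.i := D.i_endEquiv _
  have hg : D.endEquiv (α, d) ≫ D.g = D.g ≫ α := D.end_g _ _ hi
  have hid : 𝟙 O ≠ 0 := fun h0 => D.nonsplit 0 (by rw [h0, zero_comp])
  refine ⟨fun h => ⟨fun h0 => ?_, fun h0 => ?_⟩, fun h => ?_⟩
  · -- `i` composed into the second summand is killed
    have h0 : α = 0 := h0
    have hkill : (D.i ≫ biprod.inr) ≫ x = 0 := by
      apply biprod.hom_ext
      · simp only [Category.assoc, hx3, reassoc_of% D.comp, zero_comp]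
      · simp only [Category.assoc, hx4, zero_comp]
        rw [hi, h0, zero_comp]
    have := (cancel_mono x).1 (hkill.trans zero_comp.symm)
    have hi0 : D.i = 0 := by simpa using congrArg (fun v => v ≫ biprod.snd) this
    refine hid ((cancel_mono D.i).1 ?_)
    rw [hi0, comp_zero, comp_zero]
  · have h0 : a = 0 := h0
    -- a right inverse of `x`, applied to the first summand
    obtain ⟨y, hxy, hyx⟩ := h.out
    obtain ⟨b', hb'⟩ := D.exists_of_to (biprod.inl ≫ y ≫ biprod.snd)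
    refine hid ?_
    calc 𝟙 O = biprod.inl ≫ (y ≫ x) ≫ biprod.fst := by rw [hyx]; simp
      _ = (biprod.inl ≫ y ≫ biprod.fst) ≫ (biprod.inl ≫ x ≫ biprod.fst) +
          (biprod.inl ≫ y ≫ biprod.snd) ≫ (biprod.inr ≫ x ≫ biprod.fst) := by
        conv_lhs => rw [show y = y ≫ biprod.fst ≫ biprod.inl + y ≫ biprod.snd ≫ biprod.inr by
          rw [← Preadditive.comp_add, biprod.total, Category.comp_id]]
        simp only [Category.assoc, Preadditive.add_comp, Preadditive.comp_add]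
      _ = 0 := by rw [hx1, hx3, h0, ← hb']; simp [reassoc_of% D.comp]
  · haveI := (D.field α).resolve_left h.1
    haveI := (D.field a).resolve_left h.2
    haveI := (D.isIso_end_iff (α, d)).2 h.1
    haveI : Mono x := Preadditive.mono_of_cancel_zero _ fun v hv => by
      have e1 : (v ≫ biprod.fst) ≫ a + (v ≫ biprod.snd) ≫ D.g ≫ c = 0 := by
        rw [← hx1, ← hx3]
        simp only [Category.assoc]
        rw [← Preadditive.comp_add, ← Category.assoc biprod.fst, ← Category.assoc biprod.snd,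
          ← Preadditive.add_comp, biprod.total, Category.id_comp, ← Category.assoc, hv, zero_comp]
      have e2 : (v ≫ biprod.fst) ≫ b ≫ D.i + (v ≫ biprod.snd) ≫ D.endEquiv (α, d) = 0 := by
        rw [← hx2, ← hx4]
        simp only [Category.assoc]
        rw [← Preadditive.comp_add, ← Category.assoc biprod.fst, ← Category.assoc biprod.snd,
          ← Preadditive.add_comp, biprod.total, Category.id_comp, ← Category.assoc, hv, zero_comp]
      have e3 : (v ≫ biprod.snd) ≫ D.g = 0 := (cancel_mono α).1 (by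
        have := congrArg (fun φ => φ ≫ D.g) e2
        simpa [D.comp, hg] using this)
      have e4 : v ≫ biprod.fst = 0 := (cancel_mono a).1 (by
        rw [← Category.assoc (v ≫ biprod.snd), e3, zero_comp, add_zero] at e1
        rw [e1, zero_comp])
      rw [e4, zero_comp, zero_add] at e2
      have e5 : v ≫ biprod.snd = 0 := (cancel_mono (D.endEquiv (α, d))).1 (e2.trans zero_comp.symm)
      exact biprod.hom_ext _ _ (e4.trans zero_comp.symm) (e5.trans zero_comp.symm)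
    exact isUnit_of_mono D _

theorem card_aut_sum [Finite (O ⟶ O)] :
    Nat.card (Aut (O ⊞ F)) = (Nat.card (O ⟶ O) - 1) ^ 2 * Nat.card (O ⟶ O) ^ 3 := by
  rw [show (Nat.card (O ⟶ O) - 1) ^ 2 * Nat.card (O ⟶ O) ^ 3 =
      (Nat.card {a : O ⟶ O // a ≠ 0} * Nat.card (O ⟶ O)) * (Nat.card {a : O ⟶ O // a ≠ 0} *
        (Nat.card (O ⟶ O) * Nat.card (O ⟶ O))) by rw [D.card_nonzero]; ring]
  simp only [← Nat.card_prod]
  refine Nat.card_congr ?_
  exact
    { toFun := fun (f : O ⊞ F ≅ O ⊞ F) =>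
        ((⟨(D.endSumEquiv.symm f.hom).1.1, ((D.isIso_sum_iff _).1 (by
            rw [Equiv.apply_symm_apply]; infer_instance)).1⟩, (D.endSumEquiv.symm f.hom).1.2),
          ⟨(D.endSumEquiv.symm f.hom).2.1, ((D.isIso_sum_iff _).1 (by
            rw [Equiv.apply_symm_apply]; infer_instance)).2⟩, (D.endSumEquiv.symm f.hom).2.2)
      invFun := fun q => @asIso _ _ _ _ (D.endSumEquiv ((q.1.1.1, q.1.2), q.2.1.1, q.2.2))
        ((D.isIso_sum_iff _).2 ⟨q.1.1.2, q.2.1.2⟩)
      left_inv := fun (f : O ⊞ F ≅ O ⊞ F) => Iso.ext (by simp)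
      right_inv := fun q => by simp }

end

end Data

end Groth.Agent.SelfExt17
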